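/-
The action with its checks.
-/
import Cfsg.Agent.Lib.Spor.Held.ActX.Orbits
import Cfsg.Agent.Lib.Spor.Held.CX.All
import Cfsg.Agent.Lib.Spor.Held.ActX.Range0

namespace CfsgLib.Spor.Held.ActX

open CfsgLib.Spor.TC

theorem valid : act.Valid relsX :=
  ⟨range0, by decide +kernel, by decide +kernel⟩

end CfsgLib.Spor.Held.ActX
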